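import Cfsg.Agent.GenA.MaxClassPowers.Filtration
import Cfsg.Agent.GenA.MaxClassRank

/-!
A `p`-group of maximal class and order `p ^ (p + 1)` is not of exponent `p`.
-/

set_option autoImplicit false

namespace Cfsg.Agent.GenA.MaxClassPowers


open Cfsg.Agent.PGroups.MaximalClass
open scoped commutatorElement

section Ring

variable {p : ℕ} [hp : Fact p.Prime]

/-- The mixed term of degree one in `A`. -/
def mix {R : Type*} [Ring R] (S A : R) : ℕ → R
  | 0 => A
  | m + 1 => A * S ^ (m + 1) + S * mix S A m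

theorem mix_eq_sum {R : Type*} [Ring R] (S A : R) :
    ∀ m, mix S A m = ∑ i ∈ Finset.range (m + 1), S ^ i * A * S ^ (m - i)
  | 0 => by simp [mix]
  | m + 1 => by
    rw [Finset.sum_range_succ' _ (m + 1), mix, mix_eq_sum S A m, Finset.mul_sum, add_comm]
    congr 1
    · refine Finset.sum_congr rfl fun i _ => ?_
      rw [Nat.add_sub_add_right, pow_succ', mul_assoc, mul_assoc, mul_assoc]
    · simp

theorem pow_expand {R : Type*} [Ring R] [Algebra (ZMod p) R] (S A : R) :
    ∀ m : ℕ, ∃ e : ℕ → R, ∀ t : ZMod p, (t • S + A) ^ (m + 1) =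
      t ^ (m + 1) • S ^ (m + 1) + t ^ m • mix S A m + ∑ k ∈ Finset.range m, t ^ k • e k
  | 0 => ⟨0, fun t => by simp [mix]⟩
  | m + 1 => by
    obtain ⟨e, he⟩ := pow_expand S A m
    refine ⟨fun k => (if k < m then A * e k else A * mix S A m) + (if k = 0 then 0 else S * e (k - 1)), fun t => ?_⟩
    have h1 : ∑ k ∈ Finset.range (m + 1), t ^ k • (if k < m then A * e k else A * mix S A m) =
        ∑ k ∈ Finset.range m, t ^ k • (A * e k) + t ^ m • (A * mix S A m) := by
      rw [Finset.sum_range_succ, if_neg (lt_irrefl m)]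
      congr 1
      exact Finset.sum_congr rfl fun k hk => by rw [if_pos (Finset.mem_range.1 hk)]
    have h2 : ∑ k ∈ Finset.range (m + 1), t ^ k • (if k = 0 then 0 else S * e (k - 1)) =
        ∑ k ∈ Finset.range m, t ^ (k + 1) • (S * e k) := by
      rw [Finset.sum_range_succ']; simp
    rw [pow_succ' _ (m + 1), he t, Finset.sum_congr rfl fun k _ => smul_add (t ^ k) _ _, Finset.sum_add_distrib, h1, h2]
    simp only [add_mul, mul_add, Finset.mul_sum, smul_mul_assoc, mul_smul_comm, smul_smul, mix, smul_add,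
      ← pow_succ', Finset.smul_sum, Finset.sum_add_distrib]
    simp only [← pow_succ]
    abel

theorem sum_pow_expand {R : Type*} [Ring R] [Algebra (ZMod p) R] (S A : R) (hS : S ^ p = 0) :
    ∑ t : ZMod p, (t • S + A) ^ p = -mix S A (p - 1) := by
  obtain ⟨e, he⟩ := pow_expand (p := p) S A (p - 1)
  have h1 : p - 1 + 1 = p := Nat.succ_pred_eq_of_pos hp.out.pos
  rw [h1] at he
  simp only [he, hS, smul_zero, zero_add, Finset.sum_add_distrib, ← Finset.sum_smul]
  rw [Finset.sum_comm, Finset.sum_eq_zero (s := Finset.range (p - 1)) fun k hk => by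
    rw [← Finset.sum_smul, FiniteField.sum_pow_lt_card_sub_one _ k (by rw [ZMod.card]; exact Finset.mem_range.1 hk),
      zero_smul], add_zero]
  have h2 : ∑ t : ZMod p, t ^ (p - 1) = -1 := by
    rw [← Finset.sum_erase_add _ _ (Finset.mem_univ (0 : ZMod p)),
      zero_pow (by have := hp.out.two_le; omega), add_zero,
      Finset.sum_congr rfl fun t ht => ZMod.pow_card_sub_one_eq_one (Finset.ne_of_mem_erase ht),
      Finset.sum_const, Finset.card_erase_of_mem (Finset.mem_univ _), Finset.card_univ, ZMod.card, nsmul_eq_mul,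
      mul_one, Nat.cast_sub hp.out.one_le, ZMod.natCast_self]
    simp
  rw [h2, neg_one_smul]

theorem choose_pred (m : ℕ) (hm : m < p) : ((p - 1).choose m : ZMod p) = (-1) ^ m := by
  induction m with
  | zero => simp
  | succ m ih =>
    have h : (((p - 1 + 1).choose (m + 1) : ℕ) : ZMod p) = 0 := by
      rw [show p - 1 + 1 = p by omega, ZMod.natCast_eq_zero_iff]
      exact hp.out.dvd_choose_self (Nat.succ_ne_zero m) hm
    rw [Nat.choose_succ_succ, Nat.cast_add, ih (by omega)] at h
    rw [eq_neg_of_add_eq_zero_right h]; ring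

theorem mix_eq_ad {R : Type*} [Ring R] [Algebra (ZMod p) R] (S A : R) :
    mix S A (p - 1) = ((LinearMap.mulLeft (ZMod p) S - LinearMap.mulRight (ZMod p) S) ^ (p - 1)) A := by
  rw [mix_eq_sum, sub_eq_add_neg,
    ((LinearMap.commute_mulLeft_right (R := ZMod p) S S).neg_right).add_pow,
    LinearMap.sum_apply]
  refine Finset.sum_congr rfl fun i hi => ?_
  rw [Finset.mem_range] at hi
  have h1 : (-LinearMap.mulRight (ZMod p) S) ^ (p - 1 - i) =
      ((-1 : ZMod p) ^ (p - 1 - i)) • LinearMap.mulRight (ZMod p) (S ^ (p - 1 - i)) := by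
    rw [← LinearMap.pow_mulRight, ← smul_pow, neg_one_smul]
  have hip : i < p := by have := hp.out.two_le; omega
  rw [h1, LinearMap.pow_mulLeft, ← map_natCast (algebraMap (ZMod p) (Module.End (ZMod p) R)), choose_pred i hip]
  simp only [Module.End.mul_apply, LinearMap.smul_apply, LinearMap.mulLeft_apply, LinearMap.mulRight_apply,
    Module.algebraMap_end_apply, smul_mul_assoc, mul_smul_comm, smul_smul]
  rw [← pow_add, show p - 1 - i + i = p - 1 by omega,
    ZMod.pow_card_sub_one_eq_one (by simp : (-1 : ZMod p) ≠ 0), one_smul, mul_assoc]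

end Ring

section Group

variable {G : Type*} [Group G]

theorem mem_of_closure_comm {G : Type*} [Group G] (N : Subgroup G) [N.Normal] (b : G) :
    ∃ K : Subgroup G, ∀ x, x ∈ K ↔ ⁅b, x⁆ ∈ N := by
  refine ⟨(Subgroup.centralizer {QuotientGroup.mk' N b}).comap (QuotientGroup.mk' N), fun x => ?_⟩
  rw [Subgroup.mem_comap, Subgroup.mem_centralizer_singleton_iff, ← QuotientGroup.eq_one_iff (N := N),
    ← QuotientGroup.mk'_apply, map_commutatorElement, commutatorElement_eq_one_iff_mul_comm]
  exact eq_comm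

variable [Finite G] {p : ℕ} [hp : Fact p.Prime]

theorem exists_avoid (hcard : Nat.card G = p ^ (p + 1)) (C : ℕ → Subgroup G)
    (hC : ∀ i < p - 1, C i ≠ ⊤) : ∃ s : G, ∀ i < p - 1, s ∉ C i := by
  classical
  haveI : Fintype G := Fintype.ofFinite G
  by_contra! h
  have h1 : (Finset.univ : Finset G) ⊆ (Finset.range (p - 1)).biUnion fun i => Finset.univ.filter (· ∈ C i) := by
    intro x _
    obtain ⟨i, hi, hx⟩ := h x
    simp only [Finset.mem_biUnion, Finset.mem_range, Finset.mem_filter]
    exact ⟨i, hi, Finset.mem_univ _, hx⟩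
  have h2 : ∀ i ∈ Finset.range (p - 1), (Finset.univ.filter (· ∈ C i)).card * p ≤ Fintype.card G := by
    intro i hi
    obtain ⟨r, hr⟩ := (IsPGroup.of_card hcard).index (C i)
    have h3 := (C i).card_mul_index
    rw [hr, Nat.card_eq_fintype_card, Fintype.card_subtype, Nat.card_eq_fintype_card] at h3
    rw [← h3]
    refine Nat.mul_le_mul_left _ (Nat.le_self_pow ?_ p)
    rintro rfl
    rw [pow_zero, Subgroup.index_eq_one] at hr
    exact hC i (Finset.mem_range.1 hi) hr
  have h4 := Nat.mul_le_mul_right p ((Finset.card_le_card h1).trans Finset.card_biUnion_le)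
  rw [Finset.sum_mul, Finset.card_univ] at h4
  have h5 := h4.trans (Finset.sum_le_sum h2)
  rw [Finset.sum_const, Finset.card_range, smul_eq_mul, mul_comm (p - 1)] at h5
  have := Nat.le_of_mul_le_mul_left h5 Fintype.card_pos
  have := hp.out.two_le
  omega

set_option maxHeartbeats 1000000 in
/-- Lemma L. -/
theorem exists_pow_ne_one (hcard : Nat.card G = p ^ (p + 1)) (hcl : Group.nilpotencyClass G = p) :
    ∃ x : G, x ^ p ≠ 1 := by
  have hp2 := hp.out.two_le
  by_contra! hexp
  have hP : IsPGroup p G := IsPGroup.of_card hcard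
  haveI := hP.isNilpotent
  have hn : 3 ≤ p + 1 := by omega
  have hcl' : Group.nilpotencyClass G = p + 1 - 1 := hcl
  have hnc : commutator G ≠ ⊥ := by
    intro h
    have := (class_eq_iff hn hcard).mp hcl'
    exact this (le_bot_iff.mp (h ▸ lcs_one (G := G) ▸ lcs_antitone (by omega)))
  have hne : ∀ j, 1 ≤ j → j + 1 ≤ p → ¬ lcs G j ≤ lcs G (j + 1) := fun j h1 h2 hle => by
    obtain ⟨a, ha, ha'⟩ := MaxClassRank.lcs_ne hn hcard hcl' h1 (by omega)
    exact ha' (hle ha)
  -- the element s
  have hex : ∀ i : ℕ, ∃ C : Subgroup G, (i = 0 → C = lcs G 1) ∧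
      (i ≠ 0 → ∀ y, y ∈ C ↔ ∀ x ∈ lcs G i, ⁅y, x⁆ ∈ lcs G (i + 2)) := by
    intro i
    by_cases hi : i = 0
    · exact ⟨_, fun _ => rfl, fun h => absurd hi h⟩
    · refine ⟨(Subgroup.centralizer (((lcs G i).map (QuotientGroup.mk' (lcs G (i + 2)))) : Set _)).comap
        (QuotientGroup.mk' (lcs G (i + 2))), fun h => absurd h hi, fun _ y => ?_⟩
      simp only [Subgroup.mem_comap, Subgroup.mem_centralizer_iff, SetLike.mem_coe, Subgroup.mem_map,
        forall_exists_index, and_imp, forall_apply_eq_imp_iff₂]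
      refine forall₂_congr fun x _ => ?_
      rw [← QuotientGroup.eq_one_iff (N := lcs G (i + 2)), ← QuotientGroup.mk'_apply, map_commutatorElement,
        commutatorElement_eq_one_iff_mul_comm]
      exact eq_comm
  choose C hC0 hC using hex
  obtain ⟨s, hs⟩ := exists_avoid hcard C (fun i hi htop => by
    by_cases h0 : i = 0
    · subst h0
      rw [hC0 0 rfl] at htop
      have := index_lcs hn hcard hcl' (k := 1) le_rfl (by omega)
      rw [htop, Subgroup.index_top] at this
      exact absurd this.symm (Nat.one_lt_pow (by omega) hp.out.one_lt).ne'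
    · refine hne (i + 1) (by omega) (by omega) ?_
      rw [lcs_succ, Subgroup.commutator_comm, Subgroup.commutator_le]
      exact fun y _ x hx => (hC i h0 y).1 (htop ▸ Subgroup.mem_top y) x hx)
  have hs1 : s ∉ lcs G 1 := hC0 0 rfl ▸ hs 0 (by omega)
  -- the element a
  obtain ⟨a, ha⟩ : ∃ a, a ∉ lcs G 1 ⊔ Subgroup.zpowers s := by
    by_contra! h
    have h1 : Subgroup.zpowers s ⊔ commutator G = ⊤ := by
      rw [sup_comm, ← lcs_one]; exact eq_top_iff.2 fun x _ => h x
    have h2 := Components.RegularPGroup.zpowers_eq_top hP h1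
    refine hnc ((Subgroup.eq_bot_iff_forall _).2 fun z hz => ?_)
    have : commutator G ≤ ⊥ := by
      rw [commutator_def, Subgroup.commutator_le]
      intro x _ y _
      obtain ⟨i, rfl⟩ := Subgroup.mem_zpowers_iff.1 (h2 ▸ Subgroup.mem_top x : x ∈ Subgroup.zpowers s)
      obtain ⟨j, rfl⟩ := Subgroup.mem_zpowers_iff.1 (h2 ▸ Subgroup.mem_top y : y ∈ Subgroup.zpowers s)
      rw [Subgroup.mem_bot, commutatorElement_eq_one_iff_mul_comm, ← zpow_add, ← zpow_add, add_comm]
    exact this hz
  have hgen : ∀ K : Subgroup G, lcs G 1 ≤ K → s ∈ K → a ∈ K → K = ⊤ := by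
    intro K h1 h2 h3
    have hi : (lcs G 1).index = p ^ 2 := index_lcs hn hcard hcl' le_rfl (by omega)
    have hK : lcs G 1 ⊔ Subgroup.zpowers s ≤ K := sup_le h1 (Subgroup.zpowers_le.2 h2)
    have e1 := Subgroup.relIndex_mul_index (le_sup_left : lcs G 1 ≤ lcs G 1 ⊔ Subgroup.zpowers s)
    have e2 := Subgroup.relIndex_mul_index hK
    rw [hi, ← e2] at e1
    obtain ⟨i, hi1, hi2⟩ := (Nat.dvd_prime_pow hp.out).1 (Dvd.intro _ e1)
    obtain ⟨j, hj1, hj2⟩ := (Nat.dvd_prime_pow hp.out).1 (Dvd.intro _ (Dvd.intro_left _ e1 |> fun _ => show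
      (lcs G 1 ⊔ Subgroup.zpowers s).relIndex K * ((lcs G 1).relIndex (lcs G 1 ⊔ Subgroup.zpowers s) * K.index) = p ^ 2 by
        rw [← e1]; ring))
    have hi0 : i ≠ 0 := by
      rintro rfl
      exact hs1 (Subgroup.relIndex_eq_one.1 (by simpa using hi2) (le_sup_right (a := lcs G 1) (Subgroup.mem_zpowers s)))
    have hj0 : j ≠ 0 := by
      rintro rfl
      exact ha (Subgroup.relIndex_eq_one.1 (by simpa using hj2) h3)
    rw [hi2, hj2, ← mul_assoc, ← pow_add] at e1
    rw [← Subgroup.index_eq_one]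
    obtain ⟨l, hl1, hl2⟩ := (Nat.dvd_prime_pow hp.out).1 (Dvd.intro_left _ e1)
    rw [hl2, ← pow_add] at e1
    have := Nat.pow_right_injective hp.out.two_le e1
    rw [hl2, show l = 0 by omega, pow_zero]
  -- the sequence
  set x : ℕ → G := fun j => (fun y => ⁅s, y⁆)^[j - 1] a with hx
  have hxs : ∀ j, 1 ≤ j → x (j + 1) = ⁅s, x j⁆ := fun j hj => by
    show (fun y => ⁅s, y⁆)^[j + 1 - 1] a = ⁅s, (fun y => ⁅s, y⁆)^[j - 1] a⁆
    rw [show j + 1 - 1 = j - 1 + 1 by omega, Function.iterate_succ_apply']
  have hmem : ∀ j, 1 ≤ j → x j ∈ lcs G (j - 1) := by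
    intro j hj
    induction j, hj using Nat.le_induction with
    | base => rw [Nat.sub_self, lcs_zero]; exact Subgroup.mem_top _
    | succ j hj ih =>
      rw [hxs j hj, show j + 1 - 1 = j - 1 + 1 by omega, lcs_succ, Subgroup.commutator_comm]
      exact Subgroup.commutator_mem_commutator (Subgroup.mem_top _) ih
  have hnot : ∀ j, 1 ≤ j → j ≤ p → x j ∉ lcs G j := by
    intro j hj
    induction j, hj using Nat.le_induction with
    | base => intro _ h; exact ha (le_sup_left (b := Subgroup.zpowers s) h)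
    | succ j hj ih =>
      intro hjp hmem'
      rw [hxs j hj] at hmem'
      obtain ⟨K, hK⟩ := mem_of_closure_comm (lcs G (j + 1)) s
      have hL : lcs G j ≤ K := fun y hy => (hK y).2 (by
        rw [lcs_succ, Subgroup.commutator_comm]
        exact Subgroup.commutator_mem_commutator (Subgroup.mem_top _) hy)
      have hxK : x j ∈ K := (hK _).2 hmem'
      rcases eq_or_lt_of_le hj with rfl | hj2
      · -- s and a commute modulo L2
        refine hne 1 le_rfl (by omega) ?_
        have hxa : x 1 = a := rfl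
        rw [hxa] at hxK
        have hKtop : K = ⊤ := hgen K hL ((hK s).2 (by rw [commutatorElement_self]; exact one_mem _)) hxK
        obtain ⟨K', hK'⟩ := mem_of_closure_comm (lcs G (1 + 1)) a
        have hK'top : K' = ⊤ := hgen K' (fun y hy => (hK' y).2 (by
            rw [lcs_succ, Subgroup.commutator_comm]
            exact Subgroup.commutator_mem_commutator (Subgroup.mem_top _) hy))
          ((hK' s).2 (by rw [← commutatorElement_inv]; exact inv_mem ((hK a).1 hxK)))
          ((hK' a).2 (by rw [commutatorElement_self]; exact one_mem _))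
        rw [lcs_one, commutator_def, Subgroup.commutator_le]
        intro y _ z _
        obtain ⟨K'', hK''⟩ := mem_of_closure_comm (lcs G (1 + 1)) y
        have : K'' = ⊤ := hgen K'' (fun w hw => (hK'' w).2 (by
            rw [lcs_succ, Subgroup.commutator_comm]
            exact Subgroup.commutator_mem_commutator (Subgroup.mem_top _) hw))
          ((hK'' s).2 (by rw [← commutatorElement_inv]; exact inv_mem ((hK y).1 (hKtop ▸ Subgroup.mem_top y))))
          ((hK'' a).2 (by rw [← commutatorElement_inv]; exact inv_mem ((hK' y).1 (hK'top ▸ Subgroup.mem_top y))))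
        exact (hK'' z).1 (this ▸ Subgroup.mem_top z)
      · refine hs (j - 1) (by omega) ((hC (j - 1) (by omega) s).2 fun y hy => ?_)
        rw [show j - 1 + 2 = j + 1 by omega]
        have h1 := MaxClassRank.eq_sup_zpowers hn hcard hcl' (j := j - 1) (by omega) (by omega) (hmem j hj)
          (by rw [Nat.sub_add_cancel hj]; exact ih (by omega))
        rw [h1, Nat.sub_add_cancel hj] at hy
        exact (hK y).1 (sup_le hL (Subgroup.zpowers_le.2 hxK) hy)
  -- the generating sequence
  let g : Fin (p + 1) → G := fun i => if (i : ℕ) = 0 then s else x i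
  let w : Fin (p + 1) → ℕ := fun i => if (i : ℕ) = 0 then 1 else (i : ℕ)
  have hlow : ∀ k, k ≤ p → 1 ≤ k → lcs G k ≤ Subgroup.closure (g '' {l | k + 1 ≤ (l : ℕ)}) := by
    intro k hk
    induction hk using Nat.decreasingInduction with
    | self =>
      intro _
      have := lcs_eq_bot (p := p) (G := G) (m := p + 1) (by omega) hcard
      rw [Nat.add_sub_cancel] at this
      rw [this]; exact bot_le
    | of_succ k hk ih =>
      intro hk1
      rw [MaxClassRank.eq_sup_zpowers hn hcard hcl' hk1 (by omega) (a := x (k + 1))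
        (by simpa using hmem (k + 1) (by omega)) (hnot (k + 1) (by omega) (by omega))]
      refine sup_le ((ih (by omega)).trans (Subgroup.closure_mono (Set.image_mono fun l (hl : k + 1 + 1 ≤ (l : ℕ)) =>
        (by omega : k + 1 ≤ (l : ℕ))))) (Subgroup.zpowers_le.2 (Subgroup.subset_closure
          ⟨⟨k + 1, by omega⟩, (le_refl (k + 1) : k + 1 ≤ k + 1), if_neg (Nat.succ_ne_zero k)⟩))
  have hgood : Good p g w := by
    refine ⟨fun i => hexp _, fun i j hij => ?_⟩
    have hij' : (j : ℕ) < i := hij
    have hi0 : (i : ℕ) ≠ 0 := by omega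
    have hgi : g i ∈ lcs G ((i : ℕ) - 1) := by simp only [g, if_neg hi0]; exact hmem i (by omega)
    have hgj : g j ∈ lcs G ((j : ℕ) - 1) := by
      by_cases h : (j : ℕ) = 0
      · simp [h, lcs_zero]
      · simp only [g, if_neg h]; exact hmem j (by omega)
    have h1 : (g j * g i)⁻¹ * (g i * g j) ∈ lcs G (w i + w j - 1) := by
      have e : (g j * g i)⁻¹ * (g i * g j) = ⁅(g i)⁻¹, (g j)⁻¹⁆ := by rw [commutatorElement_def]; group
      rw [e]
      refine lcs_antitone ?_ (MaxClassRank.commutator_lcs_le _ _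
        (Subgroup.commutator_mem_commutator (inv_mem hgi) (inv_mem hgj)))
      simp only [w, if_neg hi0]
      split_ifs <;> omega
    have hwi : w i = (i : ℕ) := if_neg hi0
    have hwj : 1 ≤ w j ∧ (j : ℕ) ≤ w j := by simp only [w]; split_ifs <;> omega
    by_cases hbig : w i + w j - 1 ≤ p
    · have h2 : (g j * g i)⁻¹ * (g i * g j) ∈
          (Subgroup.closure (g '' {l | w i + w j - 1 + 1 ≤ (l : ℕ)})).toSubmonoid := hlow _ hbig (by omega) h1
      rw [Subgroup.closure_toSubmonoid_of_finite] at h2
      have hsub : {l : Fin (p + 1) | w i + w j - 1 + 1 ≤ (l : ℕ)} ⊆ {l | j < l ∧ w i + w j ≤ w l} := by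
        intro l hl
        have hl' : w i + w j - 1 + 1 ≤ (l : ℕ) := hl
        refine ⟨Fin.lt_def.2 (by omega), ?_⟩
        have hwl : w l = (l : ℕ) := if_neg (by omega)
        rw [hwl]; omega
      exact Submonoid.closure_mono (Set.image_mono hsub) h2
    · have h0 : lcs G (w i + w j - 1) ≤ lcs G p := lcs_antitone (by omega)
      have := lcs_eq_bot (p := p) (G := G) (m := p + 1) (by omega) hcard
      rw [Nat.add_sub_cancel] at this
      rw [(Subgroup.eq_bot_iff_forall _).1 (le_bot_iff.1 (h0.trans this.le)) _ h1]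
      exact one_mem _
  have htop : Submonoid.closure (Set.range g) = ⊤ := by
    rw [← Subgroup.closure_toSubmonoid_of_finite, ← Subgroup.top_toSubmonoid]
    congr 1
    refine hgen _ ((hlow 1 (by omega) le_rfl).trans (Subgroup.closure_mono (Set.image_subset_range _ _))) ?_ ?_
    · exact Subgroup.subset_closure ⟨⟨0, by omega⟩, if_pos rfl⟩
    · exact Subgroup.subset_closure ⟨⟨1, by omega⟩, if_neg Nat.one_ne_zero⟩
  have hm := isMult g w hgood
  set W := V (p := p) g w
  have hW1 : ∀ y : G, aug p y ∈ W 1 := fun y => aug_mem_of_mem_closure hm (by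
    have : g '' {l | 1 ≤ w l} = Set.range g := by
      rw [← Set.image_univ]; congr 1
      refine Set.eq_univ_of_forall fun l => ?_
      show 1 ≤ w l
      simp only [w]; split_ifs <;> omega
    rw [this, htop]; trivial)
  set S := aug p s
  set A := aug p a
  have hpow : ∀ X Y : MonoidAlgebra (ZMod p) G, X ∈ W 1 → Y ∈ W 1 → Y - X ∈ W 2 →
      ∀ m, Y ^ (m + 1) - X ^ (m + 1) ∈ W (m + 2) ∧ X ^ (m + 1) ∈ W (m + 1) := by
    intro X Y hX hY hd m
    induction m with
    | zero => simpa using ⟨hd, hX⟩
    | succ m ih =>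
      refine ⟨?_, by rw [pow_succ]; exact hm (m + 1) 1 _ ih.2 _ hX⟩
      have e : Y ^ (m + 1 + 1) - X ^ (m + 1 + 1) = (Y ^ (m + 1) - X ^ (m + 1)) * Y + X ^ (m + 1) * (Y - X) := by
        rw [pow_succ Y, pow_succ X]; simp only [sub_mul, mul_sub]; abel
      rw [e]
      exact add_mem (V_antitone g w (by omega) (hm (m + 2) 1 _ ih.1 _ hY)) (V_antitone g w (by omega) (hm (m + 1) 2 _ ih.2 _ hd))
  have hlin : ∀ t : ℕ, aug p (s ^ t * a) - ((t : ZMod p) • S + A) ∈ W 2 := by
    have hsp : ∀ t : ℕ, aug p (s ^ t) - (t : ZMod p) • S ∈ W 2 := by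
      intro t
      induction t with
      | zero => rw [pow_zero, aug, map_one, sub_self, Nat.cast_zero, zero_smul, sub_zero]; exact zero_mem _
      | succ t ih =>
        have e : aug p (s ^ (t + 1)) - ((t + 1 : ℕ) : ZMod p) • S =
            (aug p (s ^ t) - (t : ZMod p) • S) + aug p (s ^ t) * S := by
          simp only [S, aug, map_mul, map_pow, pow_succ, Nat.cast_succ, add_smul, one_smul, mul_sub, sub_mul,
            one_mul, mul_one]
          abel
        rw [e]; exact add_mem ih (hm 1 1 _ (hW1 _) _ (hW1 _))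
    intro t
    have e : aug p (s ^ t * a) - ((t : ZMod p) • S + A) =
        (aug p (s ^ t) - (t : ZMod p) • S) + aug p (s ^ t) * A := by
      simp only [A, aug, map_mul, mul_sub, sub_mul, one_mul, mul_one]
      abel
    rw [e]; exact add_mem (hsp t) (hm 1 1 _ (hW1 _) _ (hW1 _))
  have hmix : mix S A (p - 1) ∈ W (p + 1) := by
    rw [← neg_neg (mix S A (p - 1)), ← sum_pow_expand (p := p) S A (aug_pow_p (hexp s))]
    refine neg_mem (sum_mem fun t _ => ?_)
    have h1 := hlin t.val
    rw [ZMod.natCast_zmod_val] at h1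
    have h2 := (hpow (t • S + A) (aug p (s ^ t.val * a)) (add_mem (Submodule.smul_mem _ t (hW1 s)) (hW1 a))
      (hW1 _) h1 (p - 1)).1
    rw [Nat.sub_add_cancel hp.out.one_le, aug_pow_p (hexp _), zero_sub, show p - 1 + 2 = p + 1 by omega] at h2
    simpa using neg_mem h2
  have had : ∀ j, j < p → ((LinearMap.mulLeft (ZMod p) S - LinearMap.mulRight (ZMod p) S) ^ j) A - aug p (x (j + 1))
      ∈ W (j + 2) := by
    intro j
    induction j with
    | zero => intro _; simp [A, W, x]
    | succ j ih =>
      intro hj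
      set X := aug p (x (j + 1))
      set X' := aug p (x (j + 1 + 1))
      set B := ((LinearMap.mulLeft (ZMod p) S - LinearMap.mulRight (ZMod p) S) ^ j) A
      have hcomm : S * X - X * S = X' + X' * aug p (x (j + 1) * s) := by
        have e : s * x (j + 1) = x (j + 1 + 1) * (x (j + 1) * s) := by
          rw [hxs (j + 1) (by omega), commutatorElement_def]; group
        simp only [S, X, X', aug, mul_sub, sub_mul, one_mul, mul_one, ← map_mul, e]
        abel
      have hX' : X' ∈ W (j + 1 + 1) := by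
        have := aug_mem (p := p) g w ⟨j + 1 + 1, by omega⟩ (a := j + 1 + 1) (by
          show _ ≤ (if j + 1 + 1 = 0 then 1 else j + 1 + 1)
          rw [if_neg (by omega)])
        rw [show g ⟨j + 1 + 1, by omega⟩ = x (j + 1 + 1) from if_neg (Nat.succ_ne_zero _)] at this
        exact this
      have e : ((LinearMap.mulLeft (ZMod p) S - LinearMap.mulRight (ZMod p) S) ^ (j + 1)) A - X' =
          S * (B - X) - (B - X) * S + X' * aug p (x (j + 1) * s) := by
        rw [pow_succ', Module.End.mul_apply, LinearMap.sub_apply, LinearMap.mulLeft_apply,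
          LinearMap.mulRight_apply, show S * B - B * S = S * (B - X) - (B - X) * S + (S * X - X * S) by
            simp only [mul_sub, sub_mul]; abel, hcomm]
        abel
      rw [e]
      refine add_mem (sub_mem ?_ ?_) ?_
      · exact V_antitone g w (by omega) (hm 1 _ _ (hW1 s) _ (ih (by omega)))
      · exact V_antitone g w (by omega) (hm _ 1 _ (ih (by omega)) _ (hW1 s))
      · exact V_antitone g w (by omega) (hm _ 1 _ hX' _ (hW1 _))
  have h1 := had (p - 1) (by omega)
  rw [← mix_eq_ad (p := p) S A, show p - 1 + 2 = p + 1 by omega, show p - 1 + 1 = p by omega] at h1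
  have hfin := sub_mem hmix h1
  rw [sub_sub_cancel] at hfin
  refine aug_notMem hgood htop hcard ⟨p, by omega⟩ (a := p + 1) ?_ ?_
  · show (if p = 0 then 1 else p) < p + 1
    rw [if_neg (by omega)]; omega
  · rw [show g ⟨p, by omega⟩ = x p from if_neg hp.out.ne_zero]
    exact hfin

end Group

end Cfsg.Agent.GenA.MaxClassPowers
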