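import Mathlib

/-!
A weight filtration of the group algebra of a `p`-group attached to a polycyclic generating sequence
of exponent `p` (the easy half of Jennings' theorem).
-/

set_option autoImplicit false

namespace Cfsg.Agent.GenA.MaxClassPowers

open MonoidAlgebra

variable {p : ℕ} [Fact p.Prime] {G : Type*} [Group G]

/-- The augmentation element `x - 1`. -/
noncomputable abbrev aug (p : ℕ) {G : Type*} [Group G] (x : G) : MonoidAlgebra (ZMod p) G :=
  MonoidAlgebra.of (ZMod p) G x - 1

/-- The ordered monomial of exponents `e` in the `g i - 1`. -/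
noncomputable def mon : {n : ℕ} → (Fin n → G) → (Fin n → Fin p) → MonoidAlgebra (ZMod p) G
  | 0, _, _ => 1
  | _ + 1, g, e => aug p (g 0) ^ (e 0 : ℕ) * mon (Fin.tail g) (Fin.tail e)

/-- The weight of an exponent vector. -/
def wt {n : ℕ} (w : Fin n → ℕ) (e : Fin n → Fin p) : ℕ := ∑ i, w i * (e i : ℕ)

theorem wt_succ {n : ℕ} (w : Fin (n + 1) → ℕ) (e : Fin (n + 1) → Fin p) :
    wt w e = w 0 * (e 0 : ℕ) + wt (Fin.tail w) (Fin.tail e) := by
  rw [wt, Fin.sum_univ_succ]; rfl

/-- The span of the monomials of weight at least `a`. -/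
noncomputable def V {n : ℕ} (g : Fin n → G) (w : Fin n → ℕ) (a : ℕ) :
    Submodule (ZMod p) (MonoidAlgebra (ZMod p) G) :=
  Submodule.span (ZMod p) (mon g '' {e | a ≤ wt w e})

theorem V_antitone {n : ℕ} (g : Fin n → G) (w : Fin n → ℕ) {a b : ℕ} (h : a ≤ b) :
    V (p := p) g w b ≤ V g w a :=
  Submodule.span_mono (Set.image_mono fun _ he => le_trans h he)

theorem mon_mem {n : ℕ} (g : Fin n → G) (w : Fin n → ℕ) {a : ℕ} {e : Fin n → Fin p}
    (he : a ≤ wt w e) : mon g e ∈ V g w a :=
  Submodule.subset_span ⟨e, he, rfl⟩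

theorem mon_zero : ∀ {n : ℕ} (g : Fin n → G), mon (p := p) g (fun _ => 0) = 1
  | 0, _ => rfl
  | n + 1, g => by
    rw [mon, show Fin.tail (fun _ : Fin (n + 1) => (0 : Fin p)) = fun _ => 0 from rfl, mon_zero,
      Fin.val_zero, pow_zero, one_mul]

theorem one_mem_V {n : ℕ} (g : Fin n → G) (w : Fin n → ℕ) : (1 : MonoidAlgebra (ZMod p) G) ∈ V g w 0 := by
  rw [← mon_zero (p := p) g]; exact mon_mem g w (Nat.zero_le _)

/-- The hypothesis on the generating sequence. -/
def Good (p : ℕ) {n : ℕ} (g : Fin n → G) (w : Fin n → ℕ) : Prop :=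
  (∀ i, g i ^ p = 1) ∧ ∀ i j : Fin n, j < i →
    (g j * g i)⁻¹ * (g i * g j) ∈ Submonoid.closure (g '' {l | j < l ∧ w i + w j ≤ w l})

theorem Good.tail {n : ℕ} {g : Fin (n + 1) → G} {w : Fin (n + 1) → ℕ} (h : Good p g w) :
    Good p (Fin.tail g) (Fin.tail w) := by
  refine ⟨fun i => h.1 _, fun i j hij => ?_⟩
  refine Submonoid.closure_mono ?_ (h.2 i.succ j.succ (Fin.succ_lt_succ_iff.2 hij))
  rintro _ ⟨l, ⟨hl, hw⟩, rfl⟩
  obtain ⟨l', rfl⟩ := Fin.eq_succ_of_ne_zero (Fin.ne_zero_of_lt hl)
  exact ⟨l', ⟨Fin.succ_lt_succ_iff.1 hl, hw⟩, rfl⟩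

theorem aug_pow_p {x : G} (hx : x ^ p = 1) : aug p x ^ p = 0 := by
  haveI : CharP (MonoidAlgebra (ZMod p) G) p :=
    charP_of_injective_algebraMap (FaithfulSMul.algebraMap_injective (ZMod p) _) p
  rw [sub_pow_char_of_commute p (Commute.one_right _), ← map_pow, hx, map_one, one_pow, sub_self]

theorem aug_pow_mul_mem {n : ℕ} {g : Fin (n + 1) → G} {w : Fin (n + 1) → ℕ} (hg : g 0 ^ p = 1) {b a : ℕ}
    (f : ℕ) {y : MonoidAlgebra (ZMod p) G} (hy : y ∈ V (Fin.tail g) (Fin.tail w) b)
    (ha : a ≤ w 0 * f + b) : aug p (g 0) ^ f * y ∈ V g w a := by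
  by_cases hf : f < p
  · refine (Submodule.span_le (p := (V g w a).comap (LinearMap.mulLeft (ZMod p) (aug p (g 0) ^ f)))).2 ?_ hy
    rintro _ ⟨e, he, rfl⟩
    have h1 : aug p (g 0) ^ f * mon (Fin.tail g) e = mon g (Fin.cons ⟨f, hf⟩ e) := by
      rw [mon, Fin.tail_cons, Fin.cons_zero]
    show aug p (g 0) ^ f * mon (Fin.tail g) e ∈ V g w a
    rw [h1]
    refine mon_mem g w ?_
    rw [wt_succ, Fin.cons_zero, Fin.tail_cons]
    exact le_trans ha (Nat.add_le_add_left he _)
  · rw [show f = p + (f - p) by omega, pow_add, aug_pow_p hg, zero_mul, zero_mul]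
    exact Submodule.zero_mem _

/-- Multiplicativity of the filtration. -/
def IsMult (p : ℕ) [Fact p.Prime] {n : ℕ} (g : Fin n → G) (w : Fin n → ℕ) : Prop :=
  ∀ a b, ∀ x ∈ V (p := p) g w a, ∀ y ∈ V (p := p) g w b, x * y ∈ V g w (a + b)

theorem mon_single {n : ℕ} (g : Fin n → G) (i : Fin n) :
    mon (p := p) g (Function.update (fun _ => 0) i 1) = aug p (g i) := by
  induction n with
  | zero => exact i.elim0
  | succ n ih =>
    refine Fin.cases ?_ (fun i => ?_) i
    · rw [mon, Function.update_self, show Fin.tail (Function.update (fun _ : Fin (n + 1) => (0 : Fin p)) 0 1)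
        = fun _ => 0 from funext fun k => Function.update_of_ne (Fin.succ_ne_zero k) _ _, mon_zero, mul_one]
      rw [show ((1 : Fin p) : ℕ) = 1 from Nat.one_mod_eq_one.2 (Fact.out : p.Prime).ne_one, pow_one]
    · rw [mon, Function.update_of_ne (Fin.succ_ne_zero i).symm, Fin.val_zero, pow_zero, one_mul,
        Fin.tail_update_succ]
      exact ih _ i

theorem wt_single {n : ℕ} (w : Fin n → ℕ) (i : Fin n) :
    wt (p := p) w (Function.update (fun _ => 0) i 1) = w i := by
  rw [wt, Finset.sum_eq_single i]
  · rw [Function.update_self, show ((1 : Fin p) : ℕ) = 1 from Nat.one_mod_eq_one.2 (Fact.out : p.Prime).ne_one,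
      mul_one]
  · intro b _ hb; rw [Function.update_of_ne hb, Fin.val_zero, mul_zero]
  · intro h; exact absurd (Finset.mem_univ i) h

theorem aug_mem {n : ℕ} (g : Fin n → G) (w : Fin n → ℕ) (i : Fin n) {a : ℕ} (ha : a ≤ w i) :
    aug p (g i) ∈ V g w a := by
  rw [← mon_single]; exact mon_mem g w (by rw [wt_single]; exact ha)

theorem aug_mem_of_mem_closure {n : ℕ} {g : Fin n → G} {w : Fin n → ℕ} (hm : IsMult p g w) {a : ℕ} {x : G}
    (hx : x ∈ Submonoid.closure (g '' {l | a ≤ w l})) : aug p x ∈ V g w a := by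
  induction hx using Submonoid.closure_induction with
  | mem x hx => obtain ⟨l, hl, rfl⟩ := hx; exact aug_mem g w l hl
  | one => rw [aug, map_one, sub_self]; exact Submodule.zero_mem _
  | mul x y _ _ hx hy =>
    have : aug p (x * y) = aug p x * aug p y + aug p x + aug p y := by
      simp only [aug, map_mul, mul_sub, sub_mul, mul_one, one_mul]; abel
    rw [this]
    exact add_mem (add_mem (V_antitone g w (Nat.le_add_right a a) (hm a a _ hx _ hy)) hx) hy

theorem exists_word : ∀ {n : ℕ} (g : Fin n → G) (w : Fin n → ℕ) (e : Fin n → Fin p),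
    ∃ l : List (Fin n), mon g e = (l.map fun i => aug p (g i)).prod ∧ (l.map w).sum = wt w e := by
  intro n
  induction n with
  | zero => exact fun g w e => ⟨[], rfl, by simp [wt]⟩
  | succ n ih =>
    intro g w e
    obtain ⟨l, hl, hlw⟩ := ih (Fin.tail g) (Fin.tail w) (Fin.tail e)
    refine ⟨List.replicate (e 0 : ℕ) 0 ++ l.map Fin.succ, ?_, ?_⟩
    · rw [List.map_append, List.prod_append, List.map_replicate, List.prod_replicate, mon, hl,
        List.map_map]
      rfl
    · rw [List.map_append, List.sum_append, List.map_replicate, List.sum_replicate, wt_succ, ← hlw,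
        List.map_map, smul_eq_mul, mul_comm]
      rfl

theorem isMult : ∀ {n : ℕ} (g : Fin n → G) (w : Fin n → ℕ), Good p g w → IsMult p g w := by
  intro n
  induction n with
  | zero =>
    intro g w _ a b x hx y hy
    by_cases h : a + b = 0
    · obtain ⟨rfl, rfl⟩ : a = 0 ∧ b = 0 := by omega
      have hV : V (p := p) g w 0 = Submodule.span (ZMod p) {(1 : MonoidAlgebra (ZMod p) G)} := by
        rw [V]; congr 1
        ext z
        constructor
        · rintro ⟨e, -, rfl⟩; rfl
        · rintro rfl; exact ⟨fun i => i.elim0, Nat.zero_le _, rfl⟩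
      rw [hV] at hx hy ⊢
      obtain ⟨c, rfl⟩ := Submodule.mem_span_singleton.1 hx
      obtain ⟨d, rfl⟩ := Submodule.mem_span_singleton.1 hy
      exact Submodule.mem_span_singleton.2 ⟨c * d, by rw [smul_mul_smul_comm, mul_one]⟩
    · have hbot : ∀ c, 0 < c → V (p := p) g w c = ⊥ := fun c hc => by
        rw [V, Submodule.span_eq_bot]
        rintro _ ⟨e, he, rfl⟩
        simp [wt] at he
        omega
      rcases Nat.eq_zero_or_pos a with rfl | ha
      · rw [hbot b (by omega), Submodule.mem_bot] at hy
        rw [hy, mul_zero]; exact Submodule.zero_mem _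
      · rw [hbot a ha, Submodule.mem_bot] at hx
        rw [hx, zero_mul]; exact Submodule.zero_mem _
  | succ n ih =>
    intro g w hg
    set g' := Fin.tail g
    set w' := Fin.tail w
    have hm := ih g' w' hg.tail
    set u := aug p (g 0) with hu
    have hp0 : g 0 ^ p = 1 := hg.1 0
    -- moving `u` leftwards past the tail
    have hgen : ∀ i : Fin n, ∃ X ∈ V (p := p) g' w' (w' i + w 0),
        aug p (g' i) * u = u * aug p (g' i) + X + u * X := by
      intro i
      set c := (g 0 * g' i)⁻¹ * (g' i * g 0)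
      have hc : aug p c ∈ V g' w' (w' i + w 0) := by
        refine aug_mem_of_mem_closure hm (Submonoid.closure_mono ?_ (hg.2 i.succ 0 (Fin.succ_pos i)))
        rintro _ ⟨l, ⟨hl, hwl⟩, rfl⟩
        obtain ⟨l', rfl⟩ := Fin.eq_succ_of_ne_zero (Fin.ne_zero_of_lt hl)
        exact ⟨l', hwl, rfl⟩
      refine ⟨(1 + aug p (g' i)) * aug p c, ?_, ?_⟩
      · rw [add_mul, one_mul]
        refine add_mem hc ?_
        have := hm 0 _ _ (aug_mem g' w' i (Nat.zero_le _)) _ hc
        rwa [zero_add] at this
      · have h1 : MonoidAlgebra.of (ZMod p) G (g' i) * MonoidAlgebra.of (ZMod p) G (g 0) =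
            MonoidAlgebra.of (ZMod p) G (g 0) * MonoidAlgebra.of (ZMod p) G (g' i) *
              MonoidAlgebra.of (ZMod p) G c := by
          rw [← map_mul, ← map_mul, ← map_mul]; congr 1; simp only [c]; group
        simp only [hu, aug, mul_sub, sub_mul, mul_one, one_mul, add_mul, mul_add, h1, mul_assoc]
        abel
    have hswap : ∀ b, ∀ y ∈ V (p := p) g' w' b, ∃ A ∈ V (p := p) g' w' b,
        ∃ B ∈ V (p := p) g' w' (b + w 0), y * u = u * A + B := by
      intro b y hy
      induction hy using Submodule.span_induction with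
      | zero => exact ⟨0, zero_mem _, 0, zero_mem _, by simp⟩
      | add y z _ _ hy hz =>
        obtain ⟨A, hA, B, hB, e⟩ := hy
        obtain ⟨A', hA', B', hB', e'⟩ := hz
        exact ⟨A + A', add_mem hA hA', B + B', add_mem hB hB', by rw [add_mul, e, e', mul_add]; abel⟩
      | smul c y _ hy =>
        obtain ⟨A, hA, B, hB, e⟩ := hy
        exact ⟨c • A, Submodule.smul_mem _ c hA, c • B, Submodule.smul_mem _ c hB,
          by rw [smul_mul_assoc, e, smul_add, mul_smul_comm]⟩
      | mem y hy =>
        obtain ⟨e, he, rfl⟩ := hy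
        -- induction over products of generators
        suffices key : ∀ (l : List (Fin n)) (c : ℕ), c ≤ (l.map w').sum →
            ∃ A ∈ V (p := p) g' w' c, ∃ B ∈ V (p := p) g' w' (c + w 0),
              (l.map fun i => aug p (g' i)).prod * u = u * A + B by
          obtain ⟨l, hl, hlw⟩ := exists_word g' w' e
          rw [hl]
          exact key l b (le_trans he (le_of_eq hlw.symm))
        intro l
        induction l with
        | nil =>
          intro c hc
          simp only [List.map_nil, List.sum_nil, Nat.le_zero] at hc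
          subst hc
          exact ⟨1, one_mem_V g' w', 0, zero_mem _, by simp⟩
        | cons i l ihl =>
          intro c hc
          rw [List.map_cons, List.sum_cons] at hc
          obtain ⟨A, hA, B, hB, e'⟩ := ihl (c - w' i) (by omega)
          obtain ⟨X, hX, eX⟩ := hgen i
          refine ⟨aug p (g' i) * A + X * A,
            add_mem (V_antitone g' w' (by omega : c ≤ w' i + (c - w' i))
              (hm _ _ _ (aug_mem g' w' i le_rfl) _ hA))
              (V_antitone g' w' (by omega : c ≤ w' i + w 0 + (c - w' i)) (hm _ _ _ hX _ hA)),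
            X * A + aug p (g' i) * B,
            add_mem (V_antitone g' w' (by omega : c + w 0 ≤ w' i + w 0 + (c - w' i)) (hm _ _ _ hX _ hA))
              (V_antitone g' w' (by omega : c + w 0 ≤ w' i + (c - w' i + w 0))
                (hm _ _ _ (aug_mem g' w' i le_rfl) _ hB)), ?_⟩
          rw [List.map_cons, List.prod_cons, mul_assoc, e', mul_add, ← mul_assoc, eX]
          simp only [add_mul, mul_add, mul_assoc]
          abel
    have hswapk : ∀ (k b : ℕ), ∀ y ∈ V (p := p) g' w' b, ∀ a, a ≤ b + w 0 * k →
        ∀ (f b' : ℕ), ∀ y' ∈ V (p := p) g' w' b', u ^ f * y * u ^ k * y' ∈ V g w (w 0 * f + a + b') := by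
      intro k
      induction k with
      | zero =>
        intro b y hy a ha f b' y' hy'
        rw [pow_zero, mul_one, mul_assoc]
        exact aug_pow_mul_mem hp0 f (hm _ _ _ hy _ hy') (by omega)
      | succ k ihk =>
        intro b y hy a ha f b' y' hy'
        obtain ⟨A, hA, B, hB, e⟩ := hswap b y hy
        have h1 : u ^ f * y * u ^ (k + 1) * y' = u ^ (f + 1) * A * u ^ k * y' + u ^ f * B * u ^ k * y' := by
          rw [pow_succ', pow_succ, mul_assoc (u ^ f) y, ← mul_assoc y u, e]
          simp only [add_mul, mul_add, mul_assoc]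
        rw [h1]
        rw [mul_add, mul_one] at ha
        refine add_mem ?_ ?_
        · have := ihk b A hA (a - w 0) (by omega) (f + 1) b' y' hy'
          exact V_antitone g w (by rw [mul_add, mul_one]; omega) this
        · exact ihk (b + w 0) B hB a (by omega) f b' y' hy'
    intro a b x hx y hy
    induction hx using Submodule.span_induction with
    | zero => rw [zero_mul]; exact zero_mem _
    | add x z _ _ hx hz => rw [add_mul]; exact add_mem hx hz
    | smul c x _ hx => rw [smul_mul_assoc]; exact Submodule.smul_mem _ c hx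
    | mem x hx =>
      induction hy using Submodule.span_induction with
      | zero => rw [mul_zero]; exact zero_mem _
      | add y z _ _ hy hz => rw [mul_add]; exact add_mem hy hz
      | smul c y _ hy => rw [mul_smul_comm]; exact Submodule.smul_mem _ c hy
      | mem y hy =>
        obtain ⟨e, he, rfl⟩ := hx
        obtain ⟨e', he', rfl⟩ := hy
        rw [Set.mem_ofPred_eq, wt_succ] at he he'
        have := hswapk (e' 0) (wt w' (Fin.tail e)) (mon g' (Fin.tail e))
          (mon_mem g' w' le_rfl) (wt w' (Fin.tail e) + w 0 * (e' 0 : ℕ)) le_rfl (e 0) (wt w' (Fin.tail e'))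
          (mon g' (Fin.tail e')) (mon_mem g' w' le_rfl)
        refine V_antitone g w ?_ (by simpa [mon, mul_assoc] using this)
        simp only [w'] at *
        omega

/-- A monomial of weight `W` is not in the next filtration step. -/
theorem aug_notMem [Finite G] {n : ℕ} {g : Fin n → G} {w : Fin n → ℕ} (hg : Good p g w)
    (hgen : Submonoid.closure (Set.range g) = ⊤) (hcard : Nat.card G = p ^ n) (i : Fin n) {a : ℕ}
    (ha : w i < a) : aug p (g i) ∉ V g w a := by
  haveI : Fintype G := Fintype.ofFinite G
  have hm := isMult g w hg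
  have htop : (⊤ : Submodule (ZMod p) (MonoidAlgebra (ZMod p) G)) ≤ Submodule.span (ZMod p) (Set.range (mon g)) := by
    intro x _
    induction x using MonoidAlgebra.induction_on with
    | of x =>
      have h1 : aug p x ∈ V g w 0 := aug_mem_of_mem_closure hm (by
        have : g '' {l | 0 ≤ w l} = Set.range g := by simp
        rw [this, hgen]; trivial)
      have h2 := add_mem h1 (one_mem_V g w)
      rw [sub_add_cancel] at h2
      exact Submodule.span_mono (Set.image_subset_range _ _) h2
    | add x y hx hy => exact add_mem (hx trivial) (hy trivial)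
    | smul c x hx => exact Submodule.smul_mem _ c (hx trivial)
  have hli : LinearIndependent (ZMod p) (mon (p := p) g) := by
    refine linearIndependent_of_top_le_span_of_card_eq_finrank htop ?_
    rw [Module.finrank_eq_card_basis (MonoidAlgebra.basis G (ZMod p)), Fintype.card_fun, Fintype.card_fin, Fintype.card_fin,
      ← Nat.card_eq_fintype_card (α := G), hcard]
  intro h
  rw [← mon_single] at h
  exact hli.notMem_span_image (x := Function.update (fun _ => 0) i 1) (by
    simp only [Set.mem_ofPred_eq, wt_single, not_le]; exact ha) h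

end Cfsg.Agent.GenA.MaxClassPowers
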