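import Cfsg.Agent.GenA.MaxClassPowers.Step

/-!
In a `p`-group of maximal class every subgroup has at most `p ^ p` cosets over the subgroup generated by
its `p`-th powers.
-/

set_option autoImplicit false

namespace Cfsg.Agent.GenA.MaxClassPowers

open Subgroup
open Cfsg.Agent.PGroups.MaximalClass
open scoped commutatorElement

universe u

variable {S : Type u} [Group S] [Finite S] {p : ℕ} [hp : Fact p.Prime]

theorem card_inf_step (hS : IsPGroup p S) {A B : Subgroup S} (hAB : A ≤ B) (h : A.relIndex B = p)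
    (K : Subgroup S) [Decidable (∃ x ∈ K, x ∈ B ∧ x ∉ A)] :
    Nat.card ↥(K ⊓ B) = Nat.card ↥(K ⊓ A) * (if ∃ x ∈ K, x ∈ B ∧ x ∉ A then p else 1) := by
  split_ifs with hx
  · obtain ⟨x, hxK, hxB, hxA⟩ := hx
    have h1 : (K ⊓ A).relIndex (K ⊓ B) = p := by
      have e : (K ⊓ A).relIndex (K ⊓ B) = A.relIndex (K ⊓ B) := by
        rw [← inf_relIndex_right A (K ⊓ B)]
        congr 1
        exact le_antisymm (le_inf inf_le_right (inf_le_inf_left K hAB)) (le_inf (inf_le_right.trans inf_le_left) inf_le_left)
      rw [e]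
      refine le_antisymm (h ▸ relIndex_le_of_le_right inf_le_right (h.symm ▸ hp.out.ne_zero)) ?_
      obtain ⟨r, hr⟩ := (hS.to_subgroup (K ⊓ B)).index (A.subgroupOf (K ⊓ B))
      rw [show A.relIndex (K ⊓ B) = p ^ r from hr]
      refine Nat.le_self_pow ?_ p
      rintro rfl
      rw [pow_zero] at hr
      exact hxA (relIndex_eq_one.1 (show A.relIndex (K ⊓ B) = 1 from hr) ⟨hxK, hxB⟩)
    have := relIndex_mul_relIndex ⊥ (K ⊓ A) (K ⊓ B) bot_le (inf_le_inf_left K hAB)
    rw [relIndex_bot_left, relIndex_bot_left, h1] at this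
    exact this.symm
  · push Not at hx
    rw [mul_one, le_antisymm (le_inf inf_le_left fun x hx' => hx x hx'.1 hx'.2) (inf_le_inf_left K hAB)]

variable {n : ℕ} (hcard : Nat.card S = p ^ n) (hcl : Group.nilpotencyClass S = n - 1)
include hcard hcl

open Classical in
/-- The levels met by `K`. -/
theorem large (hn : p + 2 ≤ n) (H : Subgroup S) :
    (closure {z : S | ∃ h ∈ H, z = h ^ p}).relIndex H ≤ p ^ p := by
  have hp2 := hp.out.two_le
  have hn3 : 3 ≤ n := by omega
  have hS : IsPGroup p S := IsPGroup.of_card hcard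
  haveI := hS.isNilpotent
  obtain ⟨y, hy⟩ := exists_base hn hcard hcl
  have hy1 := not_mem_one hn hcard hcl hy
  have hi1 : (lcs S 1).index = p ^ 2 := index_lcs hn3 hcard hcl le_rfl (by omega)
  set M := zpowers y ⊔ lcs S 1
  have hMtop : M ≠ ⊤ := by
    intro htop
    have h1 : zpowers y ⊔ commutator S = ⊤ := by rw [← lcs_one]; exact htop
    have h2 := Components.RegularPGroup.zpowers_eq_top hS h1
    obtain ⟨a, ha, ha'⟩ := MaxClassRank.lcs_ne hn3 hcard hcl (j := 1) le_rfl (by omega)
    have h3 : commutator S ≤ ⊥ := by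
      rw [commutator_def, commutator_le]
      intro u _ v _
      obtain ⟨i, rfl⟩ := mem_zpowers_iff.1 (h2 ▸ mem_top u : u ∈ zpowers y)
      obtain ⟨j, rfl⟩ := mem_zpowers_iff.1 (h2 ▸ mem_top v : v ∈ zpowers y)
      rw [mem_bot, commutatorElement_eq_one_iff_mul_comm, ← zpow_add, ← zpow_add, add_comm]
    rw [lcs_one] at ha
    exact ha' (by rw [(eq_bot_iff_forall _).1 (le_bot_iff.1 h3) a ha]; exact one_mem _)
  have hMindex : (lcs S 1).relIndex M = p ∧ M.index = p := by
    have h1 := relIndex_mul_index (show lcs S 1 ≤ M from le_sup_right)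
    rw [hi1] at h1
    obtain ⟨i, hi, e1⟩ := (Nat.dvd_prime_pow hp.out).1 (Dvd.intro _ h1)
    obtain ⟨j, hj, e2⟩ := (Nat.dvd_prime_pow hp.out).1 (Dvd.intro_left _ h1)
    rw [e1, e2, ← pow_add] at h1
    have := Nat.pow_right_injective hp.out.two_le h1
    have hi0 : i ≠ 0 := by
      rintro rfl
      rw [pow_zero] at e1
      exact hy1 (relIndex_eq_one.1 e1 (mem_sup_left (mem_zpowers y)))
    have hj0 : j ≠ 0 := by
      rintro rfl
      exact hMtop (index_eq_one.1 (by simpa using e2))
    rw [e1, e2, show i = 1 by omega, show j = 1 by omega, pow_one]; exact ⟨rfl, rfl⟩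
  let J : Subgroup S → Finset ℕ := fun K =>
    (Finset.range (n - 1)).filter fun k => ∃ x ∈ K, x ∈ Lv y k ∧ x ∉ lcs S (k + 1)
  have hcount : ∀ K : Subgroup S, K ≤ M → Nat.card K = p ^ (J K).card := by
    intro K hKM
    have key : ∀ k, k ≤ n - 1 → Nat.card ↥(K ⊓ Lv y k) = p ^ ((J K).filter (k ≤ ·)).card := by
      intro k hk
      induction hk using Nat.decreasingInduction with
      | self =>
        rw [Lv_of_ne y (by omega), lcs_eq_bot (p := p) (by omega) hcard, inf_bot_eq, card_bot,
          Finset.card_eq_zero.2 (Finset.filter_eq_empty_iff.2 fun x hx => ?_), pow_zero]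
        have := Finset.mem_range.1 (Finset.mem_filter.1 hx).1
        omega
      | of_succ k hk ih =>
        have hrel : (lcs S (k + 1)).relIndex (Lv y k) = p := by
          by_cases h0 : k = 0
          · subst h0; exact hMindex.1
          · rw [Lv_of_ne y h0]; exact MaxClassRank.step_relIndex hn3 hcard hcl (by omega) (by omega)
        rw [card_inf_step hS (lcs_le_Lv y k) hrel K, ← Lv_of_ne y (Nat.succ_ne_zero k), ih,
          Lv_of_ne y (Nat.succ_ne_zero k)]
        split_ifs with hx
        · rw [← pow_succ]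
          congr 1
          rw [← Finset.card_insert_of_notMem (a := k) (by simp)]
          congr 1
          ext i
          simp only [Finset.mem_insert, Finset.mem_filter]
          constructor
          · rintro (rfl | ⟨h1, h2⟩)
            · exact ⟨Finset.mem_filter.2 ⟨Finset.mem_range.2 hk, hx⟩, le_rfl⟩
            · exact ⟨h1, by omega⟩
          · rintro ⟨h1, h2⟩
            rcases eq_or_lt_of_le h2 with rfl | h2
            · exact Or.inl rfl
            · exact Or.inr ⟨h1, h2⟩
        · rw [mul_one]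
          congr 2
          ext i
          simp only [Finset.mem_filter]
          refine and_congr_right fun hi => ⟨fun h => by omega, fun h => ?_⟩
          rcases eq_or_lt_of_le h with rfl | h
          · exact absurd (Finset.mem_filter.1 hi).2 hx
          · omega
    have h := key 0 (Nat.zero_le _)
    rwa [show K ⊓ Lv y 0 = K from inf_eq_left.2 hKM, Finset.filter_true_of_mem fun _ _ => Nat.zero_le _] at h
  set K := H ⊓ M
  set N := closure {z : S | ∃ h ∈ H, z = h ^ p}
  set N' := closure {z : S | ∃ h ∈ K, z = h ^ p}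
  have hN'K : N' ≤ K := (closure_le _).2 fun z ⟨h, hh, e⟩ => e ▸ pow_mem hh p
  have hN'N : N' ≤ N := closure_mono fun z ⟨h, hh, e⟩ => ⟨h, hh.1, e⟩
  have hJ : (J K).card ≤ (J N').card + (p - 1) := by
    have hsub : (J K).image (· + (p - 1)) ⊆ J N' ∪ Finset.Ico (n - 1) (n - 1 + (p - 1)) := by
      intro i hi
      obtain ⟨k, hk, rfl⟩ := Finset.mem_image.1 hi
      obtain ⟨hkr, x, hxK, hxL, hx⟩ := Finset.mem_filter.1 hk
      rw [Finset.mem_range] at hkr
      rw [Finset.mem_union]
      by_cases hb : k + p ≤ n - 1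
      · left
        obtain ⟨h1, h2⟩ := pow_jump hn hcard hcl hy hb hxL hx
        refine Finset.mem_filter.2 ⟨Finset.mem_range.2 (by omega), x ^ p, subset_closure ⟨x, hxK, rfl⟩, ?_, ?_⟩
        · rw [Lv_of_ne y (by omega), show k + (p - 1) = k + p - 1 by omega]; exact h1
        · rw [show k + (p - 1) + 1 = k + p by omega]; exact h2
      · right; rw [Finset.mem_Ico]; omega
    have := (Finset.card_le_card hsub).trans (Finset.card_union_le _ _)
    rwa [Finset.card_image_of_injective _ (add_left_injective _), Nat.card_Ico, Nat.add_sub_cancel_left] at this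
  have hK : Nat.card K ≤ Nat.card N' * p ^ (p - 1) := by
    rw [hcount K inf_le_right, hcount N' (hN'K.trans inf_le_right), ← pow_add]
    exact Nat.pow_le_pow_right hp.out.pos hJ
  have hH : Nat.card H ≤ Nat.card K * p := by
    have h1 := relIndex_mul_relIndex ⊥ K H bot_le inf_le_left
    rw [relIndex_bot_left, relIndex_bot_left] at h1
    rw [← h1]
    refine Nat.mul_le_mul_left _ ?_
    rw [inf_relIndex_left, ← hMindex.2, ← relIndex_top_right]
    exact relIndex_le_of_le_right le_top (by rw [relIndex_top_right, hMindex.2]; exact hp.out.ne_zero)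
  have hNH : N ≤ H := (closure_le _).2 fun z ⟨h, hh, e⟩ => e ▸ pow_mem hh p
  have h2 := relIndex_mul_relIndex ⊥ N H bot_le hNH
  rw [relIndex_bot_left, relIndex_bot_left] at h2
  refine Nat.le_of_mul_le_mul_left ?_ (Nat.card_pos : 0 < Nat.card N')
  calc Nat.card N' * N.relIndex H ≤ Nat.card N * N.relIndex H :=
        Nat.mul_le_mul_right _ (card_le_of_le hN'N)
    _ = Nat.card H := h2
    _ ≤ Nat.card K * p := hH
    _ ≤ Nat.card N' * p ^ (p - 1) * p := Nat.mul_le_mul_right _ hK
    _ = Nat.card N' * p ^ p := by rw [mul_assoc, ← pow_succ, Nat.sub_add_cancel hp.out.one_le]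

/-- `|H : ℧ H| ≤ p ^ p` for every subgroup of a group of maximal class. -/
theorem relIndex_pow_le (H : Subgroup S) :
    (closure {z : S | ∃ h ∈ H, z = h ^ p}).relIndex H ≤ p ^ p := by
  set N := closure {z : S | ∃ h ∈ H, z = h ^ p}
  have hNH : N ≤ H := (closure_le _).2 fun z ⟨h, hh, e⟩ => e ▸ pow_mem hh p
  have h2 := relIndex_mul_relIndex ⊥ N H bot_le hNH
  rw [relIndex_bot_left, relIndex_bot_left] at h2
  have hle : N.relIndex H ≤ Nat.card H := by
    rw [← h2]; exact Nat.le_mul_of_pos_left _ Nat.card_pos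
  rcases Nat.lt_or_ge p n with hpn | hpn
  · rcases eq_or_lt_of_le (Nat.succ_le_of_lt hpn) with hn | hn
    · rw [← hn] at hcard
      by_cases hH : H = ⊤
      · subst hH
        obtain ⟨x, hx⟩ := exists_pow_ne_one hcard (by omega)
        have h1 : 1 < Nat.card N := by
          rw [one_lt_card_iff_ne_bot]
          exact fun hb => hx (mem_bot.1 (hb ▸ subset_closure ⟨x, mem_top x, rfl⟩))
        rw [card_top, hcard] at h2
        obtain ⟨i, hi, e⟩ := (Nat.dvd_prime_pow hp.out).1 (Dvd.intro_left _ h2)
        rw [e]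
        refine Nat.pow_le_pow_right hp.out.pos ?_
        by_contra hip
        rw [e, show i = p.succ by omega] at h2
        exact h1.ne' ((mul_eq_right₀ (pow_ne_zero _ hp.out.ne_zero)).1 h2)
      · obtain ⟨i, hi, e⟩ := (Nat.dvd_prime_pow hp.out).1 (hcard ▸ card_subgroup_dvd_card H)
        refine hle.trans (e ▸ Nat.pow_le_pow_right hp.out.pos ?_)
        by_contra hip
        rw [show i = p.succ by omega, ← hcard] at e
        exact hH (eq_top_of_card_eq H e)
    · exact large hcard hcl (by omega) H
  · refine hle.trans ((card_le_card_group H).trans ?_)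
    rw [hcard]
    exact Nat.pow_le_pow_right hp.out.pos hpn

end Cfsg.Agent.GenA.MaxClassPowers
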