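import Cfsg.Agent.GenA.MaxClassPowers.Exponent

/-!
How the `p`-th power acts on the lower central series of a `p`-group of maximal class of order at least
`p ^ (p + 2)`.
-/

set_option autoImplicit false

namespace Cfsg.Agent.GenA.MaxClassPowers

open Subgroup
open Cfsg.Agent.PGroups.MaximalClass Cfsg.Agent.Components.RegularPGroup
open scoped commutatorElement

universe u

variable {S : Type u} [Group S] {p : ℕ} [hp : Fact p.Prime]

theorem commutator_sup_zpowers_le (x : S) (A N : Subgroup S) [A.Normal] [N.Normal] (h1 : ⁅A, A⁆ ≤ N)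
    (h2 : ∀ a ∈ A, ⁅x, a⁆ ∈ N) : ⁅zpowers x ⊔ A, zpowers x ⊔ A⁆ ≤ N := by
  rw [commutator_le]
  intro g hg g' hg'
  rw [← QuotientGroup.eq_one_iff (N := N), ← QuotientGroup.mk'_apply, map_commutatorElement,
    commutatorElement_eq_one_iff_mul_comm]
  rw [mem_sup_of_normal_right] at hg hg'
  obtain ⟨_, ⟨i, rfl⟩, a, ha, rfl⟩ := hg
  obtain ⟨_, ⟨j, rfl⟩, b, hb, rfl⟩ := hg'
  set q := QuotientGroup.mk' N
  have hc : ∀ {u v : S}, ⁅u, v⁆ ∈ N → Commute (q u) (q v) := fun {u v} h => by
    show q u * q v = q v * q u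
    rw [← commutatorElement_eq_one_iff_mul_comm, ← map_commutatorElement]
    exact (QuotientGroup.eq_one_iff _).2 h
  have hxa : Commute (q x) (q a) := hc (h2 a ha)
  have hxb : Commute (q x) (q b) := hc (h2 b hb)
  have hab : Commute (q a) (q b) := hc (h1 (commutator_mem_commutator ha hb))
  have hcm : Commute (q x ^ i * q a) (q x ^ j * q b) := by
    refine Commute.mul_left (Commute.mul_right (Commute.zpow_zpow_self _ _ _) (hxb.zpow_left i))
      (Commute.mul_right (hxa.symm.zpow_right j) hab)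
  simpa only [map_mul, map_zpow] using hcm.eq

theorem weak_map [Finite S] (hS : IsPGroup p S) {A N : Subgroup S} [N.Normal]
    (h : A.lowerCentralSeries (p - 1) ≤ N) : Weak p (A.map (QuotientGroup.mk' N)) := by
  refine weak_of_class ((hS.to_quotient N).to_subgroup _) ?_
  rw [eq_bot_iff, ← map_le_map_iff_of_injective (subtype_injective _), Subgroup.map_bot,
    top_subtype_lowerCentralSeries, ← map_lowerCentralSeries, Subgroup.map_le_iff_le_comap]
  intro x hx
  rw [mem_comap, mem_bot]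
  exact (QuotientGroup.eq_one_iff _).2 (h hx)

theorem map_mul_pow [Finite S] (hS : IsPGroup p S) {A N : Subgroup S} [N.Normal]
    (h : A.lowerCentralSeries (p - 1) ≤ N) (hd : ∀ z ∈ ⁅A, A⁆, z ^ p ∈ N) {a b : S} (ha : a ∈ A) (hb : b ∈ A) :
    QuotientGroup.mk' N ((a * b) ^ p) = QuotientGroup.mk' N (a ^ p) * QuotientGroup.mk' N (b ^ p) := by
  set q := QuotientGroup.mk' N
  have h1 := mul_ppow 1 (A.map q) (weak_map hS h) (fun z hz => ?_) ⟨q a, mem_map_of_mem q ha⟩ ⟨q b, mem_map_of_mem q hb⟩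
  · simpa [pow_one] using congrArg Subtype.val h1
  · have hz' : (z : S ⧸ N) ∈ ⁅A, A⁆.map q := by
      rw [map_commutator, ← map_subtype_commutator]; exact mem_map_of_mem _ hz
    obtain ⟨w, hw, e⟩ := hz'
    refine Subtype.ext ?_
    rw [SubgroupClass.coe_pow, OneMemClass.coe_one, ← e, pow_one, ← map_pow]
    exact (QuotientGroup.eq_one_iff _).2 (hd w hw)

variable [Finite S] {n : ℕ} (hn : p + 2 ≤ n) (hcard : Nat.card S = p ^ n)
  (hcl : Group.nilpotencyClass S = n - 1)

theorem lowerCentral_le_of (A : Subgroup S) (c : ℕ) (h1 : ⁅A, A⁆ ≤ lcs S (c + 1)) :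
    ∀ m, 1 ≤ m → A.lowerCentralSeries m ≤ lcs S (c + m) := by
  intro m hm
  induction m, hm using Nat.le_induction with
  | base => exact h1
  | succ m hm ih =>
    rw [Subgroup.lowerCentralSeries_succ, ← add_assoc, lcs_succ]
    exact commutator_mono ih le_top

theorem lowerCentral_lcs_le (k : ℕ) : ∀ m, (lcs S k).lowerCentralSeries m ≤ lcs S (k + m * (k + 1)) := by
  intro m
  induction m with
  | zero => rw [zero_mul, add_zero]; rfl
  | succ m ih =>
    rw [Subgroup.lowerCentralSeries_succ]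
    exact (commutator_mono ih le_rfl).trans ((MaxClassRank.commutator_lcs_le _ _).trans (lcs_antitone (by rw [Nat.succ_mul]; omega)))

include hn hcard hcl

theorem top_pow_mem (x : S) : x ^ p ∈ lcs S (p - 1) :=
  have hp2 := hp.out.two_le
  MaxClassRank.pow_mem_lcs (by omega) hcard hcl (p - 1) (by omega) (by omega) (by omega) x

/-- The upper bound: `℧ (L k) ≤ L (k + p - 1)`. -/
theorem pow_mem_upper {k : ℕ} (hk : 1 ≤ k) {u : S} (hu : u ∈ lcs S k) : u ^ p ∈ lcs S (k + p - 1) := by
  have hp2 := hp.out.two_le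
  have hS : IsPGroup p S := IsPGroup.of_card hcard
  set N := lcs S (k + p - 1)
  set q := QuotientGroup.mk' N
  have hA : (lcs S k).lowerCentralSeries (p - 1) ≤ N :=
    (lowerCentral_lcs_le k (p - 1)).trans (lcs_antitone (by
      have : p - 1 ≤ (p - 1) * (k + 1) := Nat.le_mul_of_pos_right _ (by omega)
      omega))
  let O := omegaSub (weak_map hS hA) 1
  have key : lcs S k ≤ (O.map ((lcs S k).map q).subtype).comap q := by
    conv_lhs => rw [show k = k - 1 + 1 by omega, lcs_succ]
    rw [commutator_le]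
    intro a ha s _
    have hc : ⁅a, s⁆ ∈ lcs S k := by
      rw [show k = k - 1 + 1 by omega, lcs_succ]; exact commutator_mem_commutator ha (mem_top s)
    have hB : ⁅zpowers s ⊔ lcs S k, zpowers s ⊔ lcs S k⁆ ≤ lcs S (k + 1) :=
      commutator_sup_zpowers_le s _ _ ((MaxClassRank.commutator_lcs_le k k).trans (lcs_antitone (by omega)))
        fun b hb => by rw [lcs_succ, Subgroup.commutator_comm]; exact commutator_mem_commutator (mem_top _) hb
    have hW := weak_map (N := N) hS ((lowerCentral_le_of _ k hB (p - 1) (by omega)).trans (lcs_antitone (by omega)))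
    have hx : q s ∈ (zpowers s ⊔ lcs S k).map q := mem_map_of_mem q (mem_sup_left (mem_zpowers s))
    have hy : q (⁅a, s⁆ * s) ∈ (zpowers s ⊔ lcs S k).map q :=
      mem_map_of_mem q (mul_mem (mem_sup_right hc) (mem_sup_left (mem_zpowers s)))
    have h1 := pow_eq_iff 1 _ hW ⟨q (⁅a, s⁆ * s), hy⟩ ⟨q s, hx⟩
    have h2 : q (⁅a, s⁆ * s) ^ p = q s ^ p := by
      rw [← map_pow, ← map_pow, commutatorElement_def, show a * s * a⁻¹ * s⁻¹ * s = a * s * a⁻¹ by group, conj_pow,
        show a * s ^ p * a⁻¹ = ⁅a, s ^ p⁆ * s ^ p by rw [commutatorElement_def]; group, map_mul, mul_eq_right]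
      refine (QuotientGroup.eq_one_iff _).2 ?_
      exact lcs_antitone (show k + p - 1 ≤ (k - 1) + (p - 1) + 1 by omega)
        (MaxClassRank.commutator_lcs_le (k - 1) (p - 1) (commutator_mem_commutator ha (top_pow_mem hn hcard hcl s)))
    have h3 := congrArg Subtype.val (h1.1 (Subtype.ext (by simpa [pow_one] using h2)))
    simp only [pow_one, SubgroupClass.coe_pow, MulMemClass.coe_mul, InvMemClass.coe_inv, OneMemClass.coe_one,
      map_mul, mul_inv_cancel_right] at h3
    exact ⟨⟨q ⁅a, s⁆, mem_map_of_mem q hc⟩, Subtype.ext (by simpa [pow_one] using h3), rfl⟩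
  obtain ⟨z, hz, e⟩ := key hu
  have hz' : (z : S ⧸ N) ^ (p ^ 1) = 1 := by
    have h := congrArg Subtype.val (hz : z ^ p ^ 1 = 1)
    simpa only [SubgroupClass.coe_pow, OneMemClass.coe_one] using h
  rw [show (z : S ⧸ N) = q u from e, pow_one, ← map_pow] at hz'
  exact (QuotientGroup.eq_one_iff _).1 hz'

theorem exists_base : ∃ y : S, y ^ p ∉ lcs S p := by
  have hp2 := hp.out.two_le
  by_contra! h
  have hn3 : 3 ≤ n := by omega
  have hQ : Nat.card (S ⧸ lcs S p) = p ^ (p + 1) := by
    rw [← index_eq_card, index_lcs hn3 hcard hcl (by omega) (by omega)]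
  have hcl' : Group.nilpotencyClass (S ⧸ lcs S p) = p + 1 - 1 := by
    rw [class_eq_iff (by omega) hQ, show p + 1 - 2 = p - 1 by omega]
    intro hbot
    obtain ⟨a, ha, ha'⟩ := MaxClassRank.lcs_ne hn3 hcard hcl (j := p - 1) (by omega) (by omega)
    rw [show p - 1 + 1 = p by omega] at ha'
    refine ha' ((QuotientGroup.eq_one_iff a).1 ?_)
    rw [← QuotientGroup.mk'_apply, ← mem_bot, ← hbot]
    show _ ∈ (⊤ : Subgroup (S ⧸ lcs S p)).lowerCentralSeries (p - 1)
    rw [← map_top_of_surjective _ (QuotientGroup.mk'_surjective (lcs S p)), ← map_lowerCentralSeries]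
    exact mem_map_of_mem _ ha
  obtain ⟨x, hx⟩ := exists_pow_ne_one hQ hcl'
  obtain ⟨y, rfl⟩ := QuotientGroup.mk'_surjective _ x
  exact hx (by rw [← map_pow]; exact (QuotientGroup.eq_one_iff _).2 (h y))

/-- The first step of the series: `M = ⟨y⟩ ⊔ L 1`. -/
abbrev Lv (y : S) (k : ℕ) : Subgroup S := if k = 0 then zpowers y ⊔ lcs S 1 else lcs S k

omit hn hcard hcl in
theorem Lv_of_ne (y : S) {k : ℕ} (hk : k ≠ 0) : Lv y k = lcs S k := if_neg hk

omit hn hcard hcl in
theorem lcs_le_Lv (y : S) (k : ℕ) : lcs S (k + 1) ≤ Lv y k := by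
  by_cases hk : k = 0
  · subst hk; exact le_sup_right
  · rw [Lv_of_ne y hk]; exact lcs_le k

theorem pow_mem_Lv (y : S) (k : ℕ) {v : S} (hv : v ∈ Lv y k) : v ^ p ∈ lcs S (k + p - 1) := by
  by_cases hk : k = 0
  · subst hk; rw [zero_add]; exact top_pow_mem hn hcard hcl v
  · rw [Lv_of_ne y hk] at hv; exact pow_mem_upper hn hcard hcl (by omega) hv

theorem not_mem_one {y : S} (hy : y ^ p ∉ lcs S p) : y ∉ lcs S 1 := fun h => hy (by
  have := pow_mem_upper hn hcard hcl le_rfl h
  rwa [Nat.add_sub_cancel_left] at this)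

theorem commutator_lcs_one : ⁅lcs S 1, lcs S 1⁆ ≤ lcs S 4 := by
  obtain ⟨x, hx, hx'⟩ := MaxClassRank.lcs_ne (S := S) (j := 1) (by have := hp.out.two_le; omega) hcard hcl le_rfl
    (by have := hp.out.two_le; omega)
  have e := MaxClassRank.eq_sup_zpowers (by have := hp.out.two_le; omega) hcard hcl le_rfl
    (by have := hp.out.two_le; omega) hx hx'
  rw [sup_comm] at e
  conv_lhs => rw [e]
  exact commutator_sup_zpowers_le x _ _ ((MaxClassRank.commutator_lcs_le 2 2).trans (lcs_antitone (by omega)))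
    fun a ha => MaxClassRank.commutator_lcs_le 1 2 (commutator_mem_commutator hx ha)

theorem Lv_derived (y : S) (k : ℕ) : ⁅Lv y k, Lv y k⁆ ≤ lcs S (k + 2) := by
  by_cases hk : k = 0
  · subst hk
    exact commutator_sup_zpowers_le y _ _ ((MaxClassRank.commutator_lcs_le 1 1).trans (lcs_antitone (by omega)))
      fun b hb => by rw [zero_add, show (2 : ℕ) = 1 + 1 from rfl, lcs_succ, Subgroup.commutator_comm]; exact commutator_mem_commutator (mem_top _) hb
  · rw [Lv_of_ne y hk]
    exact (MaxClassRank.commutator_lcs_le k k).trans (lcs_antitone (by omega))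

theorem Lv_class {y : S} (hy : y ^ p ∉ lcs S p) (k : ℕ) :
    (Lv y k).lowerCentralSeries (p - 1) ≤ lcs S (k + p + 1) := by
  have hp2 := hp.out.two_le
  by_cases hk : k = 0
  · subst hk
    rw [zero_add]
    set M := zpowers y ⊔ lcs S 1
    show M.lowerCentralSeries (p - 1) ≤ _
    have h1 : ⁅lcs S (p - 1), M⁆ ≤ lcs S (p + 1) := by
      have e := MaxClassRank.eq_sup_zpowers (S := S) (by omega) hcard hcl (j := p - 1) (by omega) (by omega)
        (top_pow_mem hn hcard hcl y) (by rw [show p - 1 + 1 = p by omega]; exact hy)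
      rw [show p - 1 + 1 = p by omega] at e
      rw [commutator_le]
      intro g hg m hm
      rw [← QuotientGroup.eq_one_iff (N := lcs S (p + 1)), ← QuotientGroup.mk'_apply, map_commutatorElement,
        commutatorElement_eq_one_iff_mul_comm]
      rw [e, mem_sup_of_normal_left] at hg
      obtain ⟨l, hl, _, ⟨i, rfl⟩, rfl⟩ := hg
      set q := QuotientGroup.mk' (lcs S (p + 1))
      have hc : ∀ {u v : S}, ⁅u, v⁆ ∈ lcs S (p + 1) → Commute (q u) (q v) := fun {u v} h => by
        show q u * q v = q v * q u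
        rw [← commutatorElement_eq_one_iff_mul_comm, ← map_commutatorElement]
        exact (QuotientGroup.eq_one_iff _).2 h
      rw [mem_sup_of_normal_right] at hm
      obtain ⟨_, ⟨j, rfl⟩, b, hb, rfl⟩ := hm
      have c1 : Commute (q l) (q (y ^ j * b)) := hc (by
        rw [lcs_succ]; exact commutator_mem_commutator hl (mem_top _))
      have c2 : Commute (q y ^ p) (q y ^ j) := (Commute.pow_self (q y) p).zpow_right j
      have c3 : Commute (q (y ^ p)) (q b) := hc (lcs_antitone (show p + 1 ≤ p - 1 + 1 + 1 by omega)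
        (MaxClassRank.commutator_lcs_le (p - 1) 1 (commutator_mem_commutator (top_pow_mem hn hcard hcl y) hb)))
      have c4 : Commute (q ((y ^ p) ^ i)) (q (y ^ j * b)) := by
        rw [map_zpow, map_mul, map_zpow]
        exact Commute.zpow_left (Commute.mul_right (by rw [map_pow]; exact c2) c3) i
      have := Commute.mul_left c1 c4
      simpa only [map_mul] using this.eq
    rcases Nat.lt_or_ge p 3 with hp3 | hp3
    · have hp' : p = 2 := by omega
      subst hp'
      exact commutator_sup_zpowers_le y _ _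
        ((commutator_mono le_rfl le_sup_right).trans h1) fun a ha => by
          rw [← commutatorElement_inv]; exact inv_mem (h1 (commutator_mem_commutator ha (mem_sup_left (mem_zpowers y))))
    · rw [show p - 1 = p - 2 + 1 by omega, Subgroup.lowerCentralSeries_succ]
      refine le_trans (commutator_mono ?_ le_rfl) h1
      have := lowerCentral_le_of M 1 (Lv_derived hn hcard hcl y 0) (p - 2) (by omega)
      rwa [show 1 + (p - 2) = p - 1 by omega] at this
  · rw [Lv_of_ne y hk]
    rcases eq_or_ne k 1 with rfl | hk1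
    · refine (lowerCentral_le_of (lcs S 1) 3 (commutator_lcs_one hn hcard hcl) (p - 1) (by omega)).trans ?_
      rcases Nat.lt_or_ge p 3 with hp3 | hp3
      · exact lcs_antitone (by omega)
      · exact lcs_antitone (by omega)
    · refine (lowerCentral_lcs_le k (p - 1)).trans (lcs_antitone ?_)
      have : (p - 1) * 3 ≤ (p - 1) * (k + 1) := Nat.mul_le_mul_left _ (by omega)
      omega

theorem Lv_mul_pow {y : S} (hy : y ^ p ∉ lcs S p) (k : ℕ) {N : Subgroup S} [N.Normal] (hN : lcs S (k + p + 1) ≤ N)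
    {a b : S} (ha : a ∈ Lv y k) (hb : b ∈ Lv y k) :
    QuotientGroup.mk' N ((a * b) ^ p) = QuotientGroup.mk' N (a ^ p) * QuotientGroup.mk' N (b ^ p) :=
  map_mul_pow (IsPGroup.of_card hcard) ((Lv_class hn hcard hcl hy k).trans hN)
    (fun z hz => hN (by
      have := pow_mem_upper hn hcard hcl (k := k + 2) (by omega) (Lv_derived hn hcard hcl y k hz)
      rwa [show k + 2 + p - 1 = k + p + 1 by omega] at this)) ha hb

theorem Lv_sup {y : S} (k : ℕ) (hk : k + 1 ≤ n - 1) {u : S} (hu : u ∈ Lv y k) (hu' : u ∉ lcs S (k + 1)) :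
    Lv y k = lcs S (k + 1) ⊔ zpowers u := by
  by_cases h0 : k = 0
  · subst h0
    refine le_antisymm ?_ (sup_le le_sup_right (zpowers_le.2 hu))
    refine sup_le (zpowers_le.2 ?_) le_sup_left
    show y ∈ lcs S 1 ⊔ zpowers u
    change u ∈ zpowers y ⊔ lcs S 1 at hu
    rw [mem_sup_of_normal_right] at hu
    obtain ⟨_, ⟨i, rfl⟩, l, hl, rfl⟩ := hu
    have hyp : y ^ p ∈ lcs S 1 := lcs_antitone (by have := hp.out.two_le; omega) (top_pow_mem hn hcard hcl y)
    have hi : ¬ (p : ℤ) ∣ i := by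
      rintro ⟨c, rfl⟩
      refine hu' (mul_mem ?_ hl)
      show y ^ ((p : ℤ) * c) ∈ _
      rw [zpow_mul, zpow_natCast]; exact zpow_mem hyp c
    obtain ⟨a, b, hab⟩ := (Prime.coprime_iff_not_dvd (Nat.prime_iff_prime_int.1 hp.out)).2 hi
    have h1 : y ^ i ∈ lcs S 1 ⊔ zpowers (y ^ i * l) := by
      have := mul_mem (mem_sup_right (mem_zpowers (y ^ i * l)) : _ ∈ lcs S 1 ⊔ zpowers (y ^ i * l))
        (mem_sup_left (inv_mem hl))
      rwa [mul_inv_cancel_right] at this
    have h2 : y ^ (p : ℤ) ∈ lcs S 1 ⊔ zpowers (y ^ i * l) := by rw [zpow_natCast]; exact mem_sup_left hyp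
    have := mul_mem (zpow_mem h2 a) (zpow_mem h1 b)
    rw [← zpow_mul, ← zpow_mul, ← zpow_add, show (p : ℤ) * a + i * b = 1 by linarith, zpow_one] at this
    exact this
  · rw [Lv_of_ne y h0] at hu ⊢
    exact MaxClassRank.eq_sup_zpowers (by have := hp.out.two_le; omega) hcard hcl (by omega) hk hu hu'

theorem spread {y : S} (hy : y ^ p ∉ lcs S p) {k : ℕ} (hk : k + p ≤ n - 1) {u : S} (hu : u ∈ Lv y k)
    (hu' : u ^ p ∉ lcs S (k + p)) : ∀ v ∈ Lv y k, v ∉ lcs S (k + 1) → v ^ p ∉ lcs S (k + p) := by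
  have hp2 := hp.out.two_le
  have hu1 : u ∉ lcs S (k + 1) := fun h => hu' (by
    have := pow_mem_upper hn hcard hcl (by omega) h
    rwa [show k + 1 + p - 1 = k + p by omega] at this)
  intro v hv hv1 hvp
  rw [Lv_sup hn hcard hcl k (by omega) hu hu1, mem_sup_of_normal_left] at hv
  obtain ⟨g, hg, _, ⟨i, rfl⟩, rfl⟩ := hv
  set N := lcs S (k + p)
  set q := QuotientGroup.mk' N
  have hgp : q (g ^ p) = 1 := (QuotientGroup.eq_one_iff _).2 (by
    have := pow_mem_upper hn hcard hcl (by omega) hg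
    rwa [show k + 1 + p - 1 = k + p by omega] at this)
  have h1 : q ((g * u ^ i) ^ p) = q (g ^ p) * q ((u ^ i) ^ p) :=
    Lv_mul_pow hn hcard hcl hy k (lcs_antitone (by omega)) (lcs_le_Lv y k hg) (zpow_mem hu i)
  have h2 : q ((g * u ^ i) ^ p) = 1 := (QuotientGroup.eq_one_iff _).2 hvp
  rw [h2, hgp, one_mul] at h1
  have h3 : (q (u ^ p)) ^ i = 1 := by
    rw [h1, ← map_zpow, ← zpow_natCast (u ^ i), ← zpow_mul, mul_comm, zpow_mul, zpow_natCast]
  have h4 : orderOf (q (u ^ p)) = p := by
    refine orderOf_eq_prime ?_ fun e => hu' ((QuotientGroup.eq_one_iff _).1 e)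
    rw [← map_pow]
    exact (QuotientGroup.eq_one_iff _).2 (lcs_antitone (show k + p ≤ k + p - 1 + p - 1 by omega)
      (pow_mem_upper hn hcard hcl (by omega) (pow_mem_Lv hn hcard hcl y k hu)))
  obtain ⟨c, rfl⟩ : (p : ℤ) ∣ i := h4 ▸ orderOf_dvd_iff_zpow_eq_one.2 h3
  refine hv1 (mul_mem hg ?_)
  show u ^ ((p : ℤ) * c) ∈ _
  rw [zpow_mul, zpow_natCast]
  exact zpow_mem (lcs_antitone (by omega) (pow_mem_Lv hn hcard hcl y k hu)) c

theorem exists_level {y : S} (hy : y ^ p ∉ lcs S p) :
    ∀ k, k + p ≤ n - 1 → ∃ u ∈ Lv y k, u ^ p ∉ lcs S (k + p) := by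
  have hp2 := hp.out.two_le
  intro k
  induction k with
  | zero => exact fun _ => ⟨y, mem_sup_left (mem_zpowers y), by rwa [zero_add]⟩
  | succ k ih =>
    intro hk
    obtain ⟨u, hu, hu'⟩ := ih (by omega)
    set N := lcs S (k + p + 1)
    set q := QuotientGroup.mk' N
    obtain ⟨s, hs⟩ : ∃ s, ⁅s, u ^ p⁆ ∉ N := by
      by_contra! h
      obtain ⟨a, ha, ha'⟩ := MaxClassRank.lcs_ne (S := S) (by omega) hcard hcl (j := k + p) (by omega) (by omega)
      refine ha' (?_ : a ∈ N)
      suffices hle : lcs S (k + p) ≤ N from hle ha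
      conv_lhs => rw [show k + p = k + p - 1 + 1 by omega, lcs_succ]
      rw [MaxClassRank.eq_sup_zpowers (S := S) (by omega) hcard hcl (j := k + p - 1) (by omega) (by omega)
        (pow_mem_Lv hn hcard hcl y k hu) (by rw [show k + p - 1 + 1 = k + p by omega]; exact hu'),
        show k + p - 1 + 1 = k + p by omega, commutator_le]
      intro g hg s _
      rw [← QuotientGroup.eq_one_iff (N := N), ← QuotientGroup.mk'_apply, map_commutatorElement,
        commutatorElement_eq_one_iff_mul_comm]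
      have hc : ∀ {a b : S}, ⁅a, b⁆ ∈ N → Commute (q a) (q b) := fun {a b} h => by
        show q a * q b = q b * q a
        rw [← commutatorElement_eq_one_iff_mul_comm, ← map_commutatorElement]
        exact (QuotientGroup.eq_one_iff _).2 h
      rw [mem_sup_of_normal_left] at hg
      obtain ⟨l, hl, _, ⟨i, rfl⟩, rfl⟩ := hg
      have c1 : Commute (q l) (q s) := hc (by rw [show N = lcs S (k + p + 1) from rfl, lcs_succ]; exact commutator_mem_commutator hl (mem_top _))
      have c2 : Commute (q ((u ^ p) ^ i)) (q s) := by rw [map_zpow]; exact ((hc (h s)).symm.zpow_left i)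
      have := Commute.mul_left c1 c2
      simpa only [map_mul] using this.eq
    have hmem : ⁅s, u⁆ ∈ lcs S (k + 1) := by
      by_cases h0 : k = 0
      · subst h0; rw [lcs_one, commutator_def]; exact commutator_mem_commutator (mem_top _) (mem_top _)
      · rw [Lv_of_ne y h0] at hu
        rw [lcs_succ, Subgroup.commutator_comm]; exact commutator_mem_commutator (mem_top _) hu
    refine ⟨⁅s, u⁆, by rw [Lv_of_ne y (Nat.succ_ne_zero k)]; exact hmem, fun hbad => hs ?_⟩
    rw [show k + 1 + p = k + p + 1 by omega] at hbad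
    have h1 : q ((⁅s, u⁆ * u) ^ p) = q (⁅s, u⁆ ^ p) * q (u ^ p) :=
      Lv_mul_pow hn hcard hcl hy k le_rfl (lcs_le_Lv y k hmem) hu
    have h0 : q (⁅s, u⁆ ^ p) = 1 := (QuotientGroup.eq_one_iff (N := N) _).2 hbad
    rw [h0, one_mul, commutatorElement_def,
      show s * u * s⁻¹ * u⁻¹ * u = s * u * s⁻¹ by group, conj_pow] at h1
    refine (QuotientGroup.eq_one_iff _).1 ?_
    rw [← QuotientGroup.mk'_apply, commutatorElement_def, map_mul, h1, ← map_mul, mul_inv_cancel, map_one]

/-- The exact jump of the `p`-th power. -/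
theorem pow_jump {y : S} (hy : y ^ p ∉ lcs S p) {k : ℕ} (hk : k + p ≤ n - 1) {v : S} (hv : v ∈ Lv y k)
    (hv' : v ∉ lcs S (k + 1)) : v ^ p ∈ lcs S (k + p - 1) ∧ v ^ p ∉ lcs S (k + p) := by
  obtain ⟨u, hu, hu'⟩ := exists_level hn hcard hcl hy k hk
  exact ⟨pow_mem_Lv hn hcard hcl y k hv, spread hn hcard hcl hy hk hu hu' v hv hv'⟩

end Cfsg.Agent.GenA.MaxClassPowers
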